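import Cfsg.Agent.Spor.RuF4.D0

set_option autoImplicit false
set_option maxRecDepth 100000000
set_option Elab.async false

namespace Cfsg.Agent.Spor.RuF4

theorem sq : PA.sq A = true := by decide +kernel

theorem T0ok : PA.gensOk A T0 4 = true := by decide +kernel

theorem iv0 : band (PA.can A m1) (band (PA.can A m1) (Nat.beq (PA.mul A m1 m1) A.one)) = true := by decide +kernel

theorem pr0 : Nat.beq (PA.prod A [x33, x24] A.one) m1 = true := by decide +kernel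

theorem iv1 : band (PA.can A m2) (band (PA.can A m2) (Nat.beq (PA.mul A m2 m2) A.one)) = true := by decide +kernel

theorem pr1 : Nat.beq (PA.prod A [x14, x23] A.one) m2 = true := by decide +kernel

theorem iv2 : band (PA.can A m3) (band (PA.can A m4) (Nat.beq (PA.mul A m3 m4) A.one)) = true := by decide +kernel

theorem pr2 : Nat.beq (PA.prod A [x27, x25, x28, A.one] A.one) m3 = true := by decide +kernel

theorem iv3 : band (PA.can A m5) (band (PA.can A m6) (Nat.beq (PA.mul A m5 m6) A.one)) = true := by decide +kernel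

theorem pr3 : Nat.beq (PA.prod A [x20, x22, x19, A.one] A.one) m5 = true := by decide +kernel

theorem w8 : PA.isW A T0 [4, 0, 4, 0, 4, 4, 2, 0, 5, 0, 5] m7 = true := by decide +kernel

theorem w11 : PA.isW A T0 [0, 5, 0, 5, 6, 0, 4, 4, 0, 5] m10 = true := by decide +kernel

theorem w14 : PA.isW A T0 [5, 2, 0, 5, 0, 4, 4, 0, 4, 0, 2] m13 = true := by decide +kernel

theorem TTok : PA.gensOk A TT 3 = true := by decide +kernel

theorem ne : PA.neq A (PA.evw A TT [0] A.one) A.one = true := by decide +kernel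

theorem r18 : PA.isW A TT [0, 0] A.one = true := by decide +kernel

theorem r19 : PA.isW A TT [5, 0, 3, 4, 2, 2, 0, 5, 0, 3, 4, 2, 2, 0, 5, 0, 3, 4, 2, 2, 0, 5, 0, 3, 4, 2, 2, 0] A.one = true := by decide +kernel

theorem r20 : PA.isW A TT [0, 3, 3, 5, 2, 0, 4, 4, 0, 3, 3, 5, 2, 0, 5, 0, 3, 4, 2, 2, 0, 3, 4, 2, 2, 0, 3, 4, 2, 2, 0, 5, 3, 3, 5, 2] A.one = true := by decide +kernel

theorem r21 : PA.isW A TT [0, 3, 3, 5, 2, 0, 4, 4, 0, 3, 3, 5, 2, 0, 4, 0, 3, 3, 5, 2, 0, 5, 0, 3, 4, 2, 4, 2, 2, 0, 5, 0, 3, 4, 2, 2, 0, 5] A.one = true := by decide +kernel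

theorem r22 : PA.isW A TT [0, 3, 4, 2, 2, 0, 5, 3, 4, 2, 2, 0, 3, 4, 2, 2, 0, 5, 0, 3, 4, 2, 2, 0, 5, 3, 3, 5, 2, 0, 3, 4, 2, 2, 0, 5] A.one = true := by decide +kernel

theorem r23 : PA.isW A TT [5, 0, 3, 4, 2, 4, 2, 2, 0, 5, 0, 3, 3, 5, 2, 0, 4, 0, 3, 4, 2, 2, 0, 5, 3, 3, 5, 3, 5, 2] A.one = true := by decide +kernel

theorem r24 : PA.isW A TT [3, 3, 5, 3, 5, 3, 5, 3, 5, 2] A.one = true := by decide +kernel

theorem r25 : PA.isW A TT [5, 0, 3, 4, 2, 2, 0, 3, 3, 5, 2, 5, 0, 3, 4, 2, 2, 0, 5, 0, 3, 4, 2, 2, 0, 3, 3, 5, 2, 5, 0, 3, 4, 2, 2, 0, 3, 3, 5, 3, 5, 2] A.one = true := by decide +kernel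

theorem r26 : PA.isW A TT [5, 0, 3, 4, 2, 2, 0, 3, 3, 5, 2, 5, 0, 3, 4, 2, 2, 0, 3, 3, 5, 2, 5, 0, 3, 4, 2, 2, 0, 3, 3, 5, 2, 5, 0, 3, 4, 2, 2, 0, 3, 3, 5, 2] A.one = true := by decide +kernel

theorem r27 : PA.isW A TT [4, 4, 4, 4] A.one = true := by decide +kernel

theorem r28 : PA.isW A TT [0, 3, 3, 5, 2, 0, 4, 3, 4, 2, 2, 0, 3, 4, 2, 2, 0, 5, 5, 3, 3, 5, 2, 4] A.one = true := by decide +kernel

theorem r29 : PA.isW A TT [3, 4, 2, 2, 0, 3, 3, 5, 2, 0, 4, 4, 0, 3, 3, 5, 3, 5, 3, 5, 2, 0, 3, 3, 5, 2, 4, 4] A.one = true := by decide +kernel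

theorem r30 : PA.isW A TT [5, 0, 3, 4, 2, 4, 2, 4, 2, 4, 2, 2, 0, 4] A.one = true := by decide +kernel

theorem r31 : PA.isW A TT [3, 4, 2, 2, 4, 0, 3, 4, 2, 2, 0, 5, 3, 3, 5, 0, 3, 3, 5, 2, 0, 2] A.one = true := by decide +kernel

theorem r32 : PA.isW A TT [0, 3, 4, 2, 2, 0, 3, 4, 2, 2, 4, 0, 3, 3, 5, 2, 0, 2, 4, 4, 2] A.one = true := by decide +kernel

theorem r33 : PA.isW A TT [0, 3, 4, 2, 4, 2, 2, 0, 5, 3, 4, 2, 2, 0, 3, 4, 2, 2, 0, 3, 5, 0, 3, 3, 5, 2, 0, 4, 2] A.one = true := by decide +kernel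

theorem r34 : PA.isW A TT [2, 4, 3, 5, 0, 5, 0, 3, 3, 4, 2] A.one = true := by decide +kernel

theorem r35 : PA.isW A TT [4, 2, 0, 3, 0, 3, 0, 5, 2, 5, 0, 3, 3, 0, 3, 4, 0, 2, 0, 2, 0] A.one = true := by decide +kernel

theorem r36 : PA.isW A TT [3, 5, 2, 0, 3, 3, 5, 2, 0, 3, 0, 3, 4, 2, 2, 0, 4, 2, 0, 3, 5, 3, 3, 0, 2, 2, 4, 2, 0] A.one = true := by decide +kernel

end Cfsg.Agent.Spor.RuF4
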