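import Cfsg.Agent.S1068
import Cfsg.Agent.Spor.PX16
import Cfsg.Agent.Spor.Rub.Grp
import Cfsg.Agent.Spor.RuF4.C0

set_option autoImplicit false
set_option maxRecDepth 100000000
set_option Elab.async false

namespace Cfsg.Agent.Spor.RuF4

open Cfsg.Lie

def e : chevF4.Idx ≃ Fin A.d := finSumFinEquiv (m := 4) (n := 48)
theorem hp : ((A.p : ℕ) : ZMod 2) = 0 := by decide
instance instCharP : CharP (ZMod 2) A.p := ZMod.charP 2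
noncomputable def X : MRep A (ZMod 2) (twistedF4 (ZMod 2) 1) := subRep _ e sq hp
theorem rt24 {t : ZMod 2} (h : t = (1 : ℤ)) : Matrix.reindexAlgEquiv (ZMod 2) (ZMod 2) e (chevF4.x _ 24 t) = A.dec _ x24 :=
  root_dec hp (by decide) _ h (by decide +kernel)
theorem rt33 {t : ZMod 2} (h : t = (1 : ℤ)) : Matrix.reindexAlgEquiv (ZMod 2) (ZMod 2) e (chevF4.x _ 33 t) = A.dec _ x33 :=
  root_dec hp (by decide) _ h (by decide +kernel)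
theorem hx0 : X.M m1 := word_M (S := f4Words _ 1) (Or.inl ⟨1, Or.inl rfl⟩) (List.Forall₂.cons ⟨rfl, rt33 (by decide)⟩ (List.Forall₂.cons ⟨rfl, rt24 (by decide)⟩ List.Forall₂.nil)) pr0 iv0
theorem rt23 {t : ZMod 2} (h : t = (1 : ℤ)) : Matrix.reindexAlgEquiv (ZMod 2) (ZMod 2) e (chevF4.x _ 23 t) = A.dec _ x23 :=
  root_dec hp (by decide) _ h (by decide +kernel)
theorem rt14 {t : ZMod 2} (h : t = (1 : ℤ)) : Matrix.reindexAlgEquiv (ZMod 2) (ZMod 2) e (chevF4.x _ 14 t) = A.dec _ x14 :=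
  root_dec hp (by decide) _ h (by decide +kernel)
theorem hx1 : X.M m2 := word_M (S := f4Words _ 1) (Or.inl ⟨1, Or.inr rfl⟩) (List.Forall₂.cons ⟨rfl, rt14 (by decide)⟩ (List.Forall₂.cons ⟨rfl, rt23 (by decide)⟩ List.Forall₂.nil)) pr1 iv1
theorem rt30 {t : ZMod 2} (h : t = (0 : ℤ)) : Matrix.reindexAlgEquiv (ZMod 2) (ZMod 2) e (chevF4.x _ 30 t) = A.dec _ A.one :=
  root_dec hp (by decide) _ h (by decide +kernel)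
theorem rt28 {t : ZMod 2} (h : t = (1 : ℤ)) : Matrix.reindexAlgEquiv (ZMod 2) (ZMod 2) e (chevF4.x _ 28 t) = A.dec _ x28 :=
  root_dec hp (by decide) _ h (by decide +kernel)
theorem rt25 {t : ZMod 2} (h : t = (1 : ℤ)) : Matrix.reindexAlgEquiv (ZMod 2) (ZMod 2) e (chevF4.x _ 25 t) = A.dec _ x25 :=
  root_dec hp (by decide) _ h (by decide +kernel)
theorem rt27 {t : ZMod 2} (h : t = (1 : ℤ)) : Matrix.reindexAlgEquiv (ZMod 2) (ZMod 2) e (chevF4.x _ 27 t) = A.dec _ x27 :=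
  root_dec hp (by decide) _ h (by decide +kernel)
theorem hx2 : X.M m3 := word_M (S := f4Words _ 1) (Or.inr ⟨1, 0, Or.inl rfl⟩) (List.Forall₂.cons ⟨rfl, rt27 (by decide)⟩ (List.Forall₂.cons ⟨rfl, rt25 (by decide)⟩ (List.Forall₂.cons ⟨rfl, rt28 (by decide)⟩ (List.Forall₂.cons ⟨rfl, rt30 (by decide)⟩ List.Forall₂.nil)))) pr2 iv2
theorem rt17 {t : ZMod 2} (h : t = (0 : ℤ)) : Matrix.reindexAlgEquiv (ZMod 2) (ZMod 2) e (chevF4.x _ 17 t) = A.dec _ A.one :=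
  root_dec hp (by decide) _ h (by decide +kernel)
theorem rt19 {t : ZMod 2} (h : t = (1 : ℤ)) : Matrix.reindexAlgEquiv (ZMod 2) (ZMod 2) e (chevF4.x _ 19 t) = A.dec _ x19 :=
  root_dec hp (by decide) _ h (by decide +kernel)
theorem rt22 {t : ZMod 2} (h : t = (1 : ℤ)) : Matrix.reindexAlgEquiv (ZMod 2) (ZMod 2) e (chevF4.x _ 22 t) = A.dec _ x22 :=
  root_dec hp (by decide) _ h (by decide +kernel)
theorem rt20 {t : ZMod 2} (h : t = (1 : ℤ)) : Matrix.reindexAlgEquiv (ZMod 2) (ZMod 2) e (chevF4.x _ 20 t) = A.dec _ x20 :=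
  root_dec hp (by decide) _ h (by decide +kernel)
theorem hx3 : X.M m5 := word_M (S := f4Words _ 1) (Or.inr ⟨1, 0, Or.inr rfl⟩) (List.Forall₂.cons ⟨rfl, rt20 (by decide)⟩ (List.Forall₂.cons ⟨rfl, rt22 (by decide)⟩ (List.Forall₂.cons ⟨rfl, rt19 (by decide)⟩ (List.Forall₂.cons ⟨rfl, rt17 (by decide)⟩ List.Forall₂.nil)))) pr3 iv3
theorem g0 : X.Gens T0 (atm 4 (X.gen T0)) :=
  MRep.Gens.of_M T0ok (MRep.allM (L := [m1, m2, m3, m5]) (AllP.cons hx0 (AllP.cons hx1 (AllP.cons hx2 (AllP.cons hx3 (AllP.nil))))) rfl)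
theorem hM9 : X.M m7 := (g0.isW w8).1
theorem hM12 : X.M m10 := (g0.isW w11).1
theorem hM15 : X.M m13 := (g0.isW w14).1
theorem gTT : X.Gens TT (atm 3 (X.gen TT)) :=
  MRep.Gens.of_M TTok (MRep.allM (L := [m7, m10, m13]) (AllP.cons hM9 (AllP.cons hM12 (AllP.cons hM15 (AllP.nil)))) rfl)
theorem pres : Pres 3 1 Rub.RL (X.gen TT) :=
  ⟨fun j h _ => by
    obtain rfl : j = 0 := by omega
    have := gTT.all_one (show AllP (fun w => PA.isW A TT w A.one = true) [[0, 0]] from AllP.cons r18 (AllP.nil)) _ List.mem_cons_self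
    rw [ev_cons, ev_cons, ev_nil, mul_one] at this
    exact atm_two_mul (X.gen TT) (by decide : 0 < 3) ▸ this, gTT.all_one (show AllP (fun w => PA.isW A TT w A.one = true) [[5, 0, 3, 4, 2, 2, 0, 5, 0, 3, 4, 2, 2, 0, 5, 0, 3, 4, 2, 2, 0, 5, 0, 3, 4, 2, 2, 0], [0, 3, 3, 5, 2, 0, 4, 4, 0, 3, 3, 5, 2, 0, 5, 0, 3, 4, 2, 2, 0, 3, 4, 2, 2, 0, 3, 4, 2, 2, 0, 5, 3, 3, 5, 2], [0, 3, 3, 5, 2, 0, 4, 4, 0, 3, 3, 5, 2, 0, 4, 0, 3, 3, 5, 2, 0, 5, 0, 3, 4, 2, 4, 2, 2, 0, 5, 0, 3, 4, 2, 2, 0, 5], [0, 3, 4, 2, 2, 0, 5, 3, 4, 2, 2, 0, 3, 4, 2, 2, 0, 5, 0, 3, 4, 2, 2, 0, 5, 3, 3, 5, 2, 0, 3, 4, 2, 2, 0, 5], [5, 0, 3, 4, 2, 4, 2, 2, 0, 5, 0, 3, 3, 5, 2, 0, 4, 0, 3, 4, 2, 2, 0, 5, 3, 3, 5, 3, 5, 2], [3, 3, 5, 3, 5, 3, 5, 3, 5, 2], [5, 0, 3, 4, 2, 2, 0, 3, 3, 5, 2, 5, 0, 3, 4, 2, 2, 0, 5, 0, 3, 4, 2, 2, 0, 3, 3, 5, 2, 5, 0, 3,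 4, 2, 2, 0, 3, 3, 5, 3, 5, 2], [5, 0, 3, 4, 2, 2, 0, 3, 3, 5, 2, 5, 0, 3, 4, 2, 2, 0, 3, 3, 5, 2, 5, 0, 3, 4, 2, 2, 0, 3, 3, 5, 2, 5, 0, 3, 4, 2, 2, 0, 3, 3, 5, 2], [4, 4, 4, 4], [0, 3, 3, 5, 2, 0, 4, 3, 4, 2, 2, 0, 3, 4, 2, 2, 0, 5, 5, 3, 3, 5, 2, 4], [3, 4, 2, 2, 0, 3, 3, 5, 2, 0, 4, 4, 0, 3, 3, 5, 3, 5, 3, 5, 2, 0, 3, 3, 5, 2, 4, 4], [5, 0, 3, 4, 2, 4, 2, 4, 2, 4, 2, 2, 0, 4], [3, 4, 2, 2, 4, 0, 3, 4, 2, 2, 0, 5, 3, 3, 5, 0, 3, 3, 5, 2, 0, 2], [0, 3, 4, 2, 2, 0, 3, 4, 2, 2, 4, 0, 3, 3, 5, 2, 0, 2, 4, 4, 2], [0, 3, 4, 2, 4, 2, 2, 0, 5, 3, 4, 2, 2, 0, 3, 4, 2, 2, 0, 3, 5, 0, 3, 3, 5, 2, 0, 4, 2], [2, 4, 3, 5, 0, 5, 0, 3, 3, 4, 2], [4, 2, 0, 3, 0, 3, 0, 5, 2, 5, 0, 3, 3, 0, 3, 4, 0, 2, 0, 2, 0], [3, 5, 2, 0, 3, 3, 5, 2, 0, 3, 0, 3, 4, 2, 2, 0, 4, 2, 0, 3, 5, 3, 3, 0, 2, 2, 4, 2, 0]] from AllP.cons r19 (AllP.cons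 r20 (AllP.cons r21 (AllP.cons r22 (AllP.cons r23 (AllP.cons r24 (AllP.cons r25 (AllP.cons r26 (AllP.cons r27 (AllP.cons r28 (AllP.cons r29 (AllP.cons r30 (AllP.cons r31 (AllP.cons r32 (AllP.cons r33 (AllP.cons r34 (AllP.cons r35 (AllP.cons r36 (AllP.nil)))))))))))))))))))⟩
theorem iso : Nonempty (Rub.P ≃* twistedF4 (ZMod 2) 1) := by
  obtain ⟨ψ, h⟩ := Rub.bound.exists_hom (by norm_num) Rub.cert.pres pres Rub.lbP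
  have h1 : Function.Injective ψ := (MonoidHom.ker_eq_bot_iff ψ).mp
    ((Rub.casesP _ inferInstance).resolve_right fun h1 => gTT.ne_one ne
      ((ev_atm_map' h _).symm.trans (h1 (mem_wsub Rub.p List.mem_cons_self))))
  have h2 := Cfsg.Agent.S1068.result (K := ZMod 2) (m := 0) (ZMod.card 2)
  exact ⟨MulEquiv.ofBijective ψ ((Nat.bijective_iff_injective_and_card ψ).mpr ⟨h1, Rub.cardP.trans h2.symm⟩)⟩

end Cfsg.Agent.Spor.RuF4
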